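/-
Affine charts of a blow-up in an ideal with two generators, with their generating fraction.
-/
import Groth.Agent.BlowPerf.Global

set_option autoImplicit false
set_option linter.style.haveILetI false
set_option backward.isDefEq.respectTransparency false
set_option backward.isDefEq.respectTransparency.types false
set_option maxHeartbeats 800000
set_option linter.unusedVariables false

universe u

open Groth.Agent.BlowUp TopologicalSpace
open CategoryTheory CategoryTheory.Limits AlgebraicGeometry

namespace Groth.Agent.BlowH1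

/-- Restriction of functions. -/
noncomputable abbrev rs {X : Scheme.{u}} {U V : X.Opens} (h : V ≤ U) : Γ(X, U) →+* Γ(X, V) :=
  (X.presheaf.map (homOfLE h).op).hom

lemma rs_rs {X : Scheme.{u}} {U V W : X.Opens} (h : V ≤ U) (h' : W ≤ V) (x : Γ(X, U)) :
    rs h' (rs h x) = rs (h'.trans h) x := by
  show (X.presheaf.map _ ≫ X.presheaf.map _) x = _
  rw [← Functor.map_comp]
  rfl

lemma appIso_rs {X Y : Scheme.{u}} (j : Y ⟶ X) [IsOpenImmersion j] (z : Γ(X, ⊤)) :
    (j.appIso ⊤).hom (rs le_top z) = j.appTop z := by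
  rw [Scheme.Hom.appIso_hom']
  show (X.presheaf.map _ ≫ j.appLE _ _ _) _ = _
  rw [Scheme.Hom.map_appLE]
  show j.appLE ⊤ ⊤ _ _ = _
  rw [show j.appLE ⊤ ⊤ le_top = j.appTop from (Scheme.Hom.app_eq_appLE j).symm]

/-- An affine chart of a blow-up with two generators. -/
theorem exists_chart_data {A : Type u} [CommRing A] {I : Ideal A} {X : Scheme.{u}}
    (b : X ⟶ Spec (CommRingCat.of A)) (e : Proj (Rees.deg (reesAlgebra I)) ≅ X)
    (he : e.hom ≫ b = Proj (Rees.deg (reesAlgebra I)) ↘ Spec (CommRingCat.of A))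
    {x y : A} (hI : I = Ideal.ofList [x, y]) (hx : x ∈ I) (hy : y ∈ I) :
    ∃ (U : X.Opens) (hU : IsAffineOpen U) (T : Γ(X, U)),
      U = (ProjRees.chart I hx ≫ e.hom).opensRange ∧
      U ⊓ (ProjRees.chart I hy ≫ e.hom).opensRange = X.basicOpen T ∧
      rs le_top (AffineChart.glob b x) * T = rs le_top (AffineChart.glob b y) ∧
      rs (le_top : U ≤ ⊤) (AffineChart.glob b x) ∈ nonZeroDivisors Γ(X, U) ∧
      ∀ r : Γ(X, U), ∃ p : Polynomial A, r = p.eval₂ ((rs le_top).comp (AffineChart.glob b)) T := by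
  let C := AffineChart.Chart I x
  let j : Spec (CommRingCat.of C) ⟶ X := ProjRees.chart I hx ≫ e.hom
  let V := (ProjRees.chart I hy ≫ e.hom).opensRange
  have hjb : j ≫ b = AffineChart.toBase I x := by
    rw [Category.assoc, he]; exact ProjRees.chart_over I hx
  let U : X.Opens := j ''ᵁ ⊤
  let ψ : Γ(X, U) ≅ CommRingCat.of C := j.appIso ⊤ ≪≫ Scheme.ΓSpecIso (CommRingCat.of C)
  let ε := ψ.commRingCatIsoToRingEquiv
  have hψ : ∀ a : A, ε (rs le_top (AffineChart.glob b a)) = algebraMap A C a := by
    intro a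
    have h1 : (j.appIso ⊤).hom (rs le_top (AffineChart.glob b a)) = AffineChart.glob (j ≫ b) a := by
      rw [AffineChart.glob_comp]
      exact appIso_rs j _
    show (Scheme.ΓSpecIso (CommRingCat.of C)).hom ((j.appIso ⊤).hom (rs le_top (AffineChart.glob b a))) = _
    rw [h1, hjb, AffineChart.glob_toBase]
    exact (Scheme.ΓSpecIso (CommRingCat.of C)).commRingCatIsoToRingEquiv.apply_symm_apply _
  let t : C := AffineChart.div I x hy
  refine ⟨U, (isAffineOpen_top _).image_of_isOpenImmersion j, ε.symm t, Scheme.Hom.image_top_eq_opensRange j, ?_, ?_, ?_, ?_⟩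
  · have hpre : j ⁻¹ᵁ V = PrimeSpectrum.basicOpen t := by
      rw [← ProjRees.chart_preimage_opensRange I hx hy]
      show (ProjRees.chart I hx ≫ e.hom) ⁻¹ᵁ (ProjRees.chart I hy ≫ e.hom).opensRange = _
      rw [Scheme.Hom.comp_preimage, Scheme.Hom.opensRange_comp, Scheme.Hom.preimage_image_eq]
    show U ⊓ V = _
    rw [show ε.symm t = (j.appIso ⊤).inv ((Scheme.ΓSpecIso (CommRingCat.of C)).inv t) from rfl,
      ← Scheme.image_basicOpen, basicOpen_eq_of_affine]
    rw [← hpre, Scheme.Hom.image_preimage_eq_opensRange_inf, show U = j.opensRange from Scheme.Hom.image_top_eq_opensRange j]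
  · refine ε.injective ?_
    rw [map_mul, hψ, hψ, RingEquiv.apply_symm_apply]
    exact AffineChart.algebraMap_mul_div I x hy
  · rw [mem_nonZeroDivisors_iff_right]
    intro z hz
    refine ε.injective ?_
    rw [map_zero]
    refine mem_nonZeroDivisors_iff_right.1 (AffineChart.algebraMap_mem_nonZeroDivisors I x) _ ?_
    rw [← hψ x, ← map_mul, hz, map_zero]
  · intro r
    have hcl : ∀ c : C, ∃ p : Polynomial A, c = p.eval₂ (algebraMap A C) t := by
      suffices hle : BlowUp.affineAlgebra A I x ≤ ((BlowUp.affineAlgebra A I x).val.comp (Polynomial.aeval t)).range by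
        intro c
        obtain ⟨p, hp⟩ := hle c.2
        exact ⟨p, Subtype.ext hp.symm⟩
      refine Algebra.adjoin_le ?_
      rintro _ ⟨z, hz, rfl⟩
      rw [hI, Ideal.ofList, show {a | a ∈ [x, y]} = ({x, y} : Set A) by ext a; simp, Ideal.mem_span_pair] at hz
      obtain ⟨u, v, rfl⟩ := hz
      refine ⟨Polynomial.C u + Polynomial.C v * Polynomial.X, ?_⟩
      show ((Polynomial.aeval t (Polynomial.C u + Polynomial.C v * Polynomial.X) : C) : Localization.Away x) = _
      rw [map_add, map_mul, Polynomial.aeval_C, Polynomial.aeval_C, Polynomial.aeval_X]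
      show algebraMap A (Localization.Away x) u + algebraMap A _ v * IsLocalization.mk' _ y _ = _
      rw [IsLocalization.eq_mk'_iff_mul_eq, add_mul, mul_assoc, IsLocalization.mk'_spec, ← map_mul, ← map_mul, ← map_add]
    obtain ⟨p, hp⟩ := hcl (ε r)
    refine ⟨p, ε.injective ?_⟩
    rw [hp]
    show _ = ε.toRingHom (p.eval₂ _ (ε.symm t))
    rw [Polynomial.hom_eval₂]
    congr 1
    · exact RingHom.ext fun a => (hψ a).symm
    · exact (ε.apply_symm_apply t).symm

end Groth.Agent.BlowH1
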