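/-
The fibre over the closed point of a blow-up of a local ring in a maximal ideal with two generators
is irreducible as soon as it has a non-closed point: it is the closure of that point.
-/
import Groth.Agent.BlowH1.Chart

set_option autoImplicit false
set_option linter.style.haveILetI false
set_option backward.isDefEq.respectTransparency false
set_option backward.isDefEq.respectTransparency.types false

universe u

open Groth.Agent.BlowUp TopologicalSpace
open CategoryTheory CategoryTheory.Limits AlgebraicGeometry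

namespace Groth.Agent.BlowH1

variable {A : Type u} [CommRing A] [IsLocalRing A] {X : Scheme.{u}} (b : X ⟶ Spec (CommRingCat.of A))

lemma mem_primeIdealOf {U : X.Opens} (hU : IsAffineOpen U) {y : X} (hy : y ∈ U) (r : Γ(X, U)) :
    r ∈ (hU.primeIdealOf ⟨y, hy⟩).asIdeal ↔ X.evaluation U y hy r = 0 := by
  rw [X.evaluation_eq_zero_iff_notMem_basicOpen y hy r]
  have h := hU.fromSpec_preimage_basicOpen r
  have h2 : hU.primeIdealOf ⟨y, hy⟩ ∈ PrimeSpectrum.basicOpen r ↔ y ∈ X.basicOpen r := by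
    rw [← h]
    show hU.fromSpec (hU.primeIdealOf ⟨y, hy⟩) ∈ X.basicOpen r ↔ _
    rw [hU.fromSpec_primeIdealOf]
  rw [← h2, PrimeSpectrum.mem_basicOpen, not_not]

lemma eval_glob_eq_zero {y : X} (hy : b y = IsLocalRing.closedPoint A) {a : A}
    (ha : a ∈ IsLocalRing.maximalIdeal A) {U : X.Opens} (hyU : y ∈ U) :
    X.evaluation U y hyU (rs le_top (AffineChart.glob b a)) = 0 := by
  rw [X.evaluation_eq_zero_iff_notMem_basicOpen y hyU, Scheme.basicOpen_res]
  rintro ⟨-, h⟩
  have h' : b y ∈ (Spec (CommRingCat.of A)).basicOpen ((Scheme.ΓSpecIso (CommRingCat.of A)).inv a) := by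
    have := Scheme.preimage_basicOpen_top b ((Scheme.ΓSpecIso (CommRingCat.of A)).inv a)
    have hmem : y ∈ b ⁻¹ᵁ (Spec (CommRingCat.of A)).basicOpen ((Scheme.ΓSpecIso (CommRingCat.of A)).inv a) := by
      rw [this]; exact h
    exact hmem
  rw [basicOpen_eq_of_affine, hy] at h'
  exact h' ha

/-- A generating fraction takes a transcendental value at a non-closed point of the fibre. -/
lemma coeff_mem {U : X.Opens} (hU : IsAffineOpen U) {T : Γ(X, U)}
    (hgen : ∀ r : Γ(X, U), ∃ p : Polynomial A, r = p.eval₂ ((rs le_top).comp (AffineChart.glob b)) T)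
    {η z : X} (hηz : η ⤳ z) (hne : η ≠ z) (hz : z ∈ U) (hη : b η = IsLocalRing.closedPoint A)
    (p : Polynomial A)
    (hp : X.evaluation U η (hηz.mem_open U.2 hz) (p.eval₂ ((rs le_top).comp (AffineChart.glob b)) T) = 0)
    (n : ℕ) : p.coeff n ∈ IsLocalRing.maximalIdeal A := by
  set g : A →+* Γ(X, U) := (rs le_top).comp (AffineChart.glob b)
  have hηU : η ∈ U := hηz.mem_open U.2 hz
  let P := hU.primeIdealOf ⟨η, hηU⟩
  have hlt : P.asIdeal < (hU.primeIdealOf ⟨z, hz⟩).asIdeal := by
    have hs : P ⤳ hU.primeIdealOf ⟨z, hz⟩ := by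
      rw [← hU.fromSpec.isOpenEmbedding.isInducing.specializes_iff, hU.fromSpec_primeIdealOf,
        hU.fromSpec_primeIdealOf]
      exact hηz
    refine lt_of_le_of_ne ((PrimeSpectrum.le_iff_specializes _ _).2 hs) fun h => hne ?_
    have := congrArg hU.fromSpec (PrimeSpectrum.ext h)
    rwa [hU.fromSpec_primeIdealOf, hU.fromSpec_primeIdealOf] at this
  by_contra hn
  let k := IsLocalRing.ResidueField A
  let φ : k →+* Γ(X, U) ⧸ P.asIdeal := Ideal.Quotient.lift _ ((Ideal.Quotient.mk P.asIdeal).comp g) fun a ha => by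
    rw [RingHom.comp_apply, Ideal.Quotient.eq_zero_iff_mem, mem_primeIdealOf]
    exact eval_glob_eq_zero b hη ha hηU
  let h : Polynomial k →+* Γ(X, U) ⧸ P.asIdeal := Polynomial.eval₂RingHom φ (Ideal.Quotient.mk P.asIdeal T)
  have hcomm : ∀ q : Polynomial A,
      h (q.map (IsLocalRing.residue A)) = Ideal.Quotient.mk P.asIdeal (q.eval₂ g T) := fun q => by
    show Polynomial.eval₂ φ _ (q.map _) = _
    rw [Polynomial.eval₂_map, Polynomial.hom_eval₂]
    rfl
  have hsurj : Function.Surjective h := fun d => by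
    obtain ⟨r, rfl⟩ := Ideal.Quotient.mk_surjective d
    obtain ⟨q, rfl⟩ := hgen r
    exact ⟨_, hcomm q⟩
  have hker : RingHom.ker h ≠ ⊥ := by
    intro hbot
    have h0 : p.map (IsLocalRing.residue A) ∈ RingHom.ker h := by
      rw [RingHom.mem_ker, hcomm, Ideal.Quotient.eq_zero_iff_mem, mem_primeIdealOf]
      exact hp
    rw [hbot, Ideal.mem_bot] at h0
    refine hn ((IsLocalRing.residue_eq_zero_iff _).1 ?_)
    rw [← Polynomial.coeff_map, h0, Polynomial.coeff_zero]
  haveI hmax : (RingHom.ker h).IsMaximal := (RingHom.ker_isPrime h).isMaximal hker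
  haveI : (⊥ : Ideal (Γ(X, U) ⧸ P.asIdeal)).IsMaximal := by
    have := Ideal.IsMaximal.map_of_surjective_of_ker_le (f := h) hsurj (m := RingHom.ker h) le_rfl
    rwa [(Ideal.map_eq_bot_iff_le_ker _).2 le_rfl] at this
  haveI : P.asIdeal.IsMaximal := by
    have := Ideal.comap_isMaximal_of_surjective (Ideal.Quotient.mk P.asIdeal) Ideal.Quotient.mk_surjective
      (K := ⊥)
    rwa [← RingHom.ker_eq_comap_bot, Ideal.mk_ker] at this
  exact hlt.ne (Ideal.IsMaximal.eq_of_le this (hU.primeIdealOf ⟨z, hz⟩).2.ne_top hlt.le)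

/-- If the value of the fraction is transcendental at `η`, every fibre point of the chart is a
specialisation of `η`. -/
lemma specializes_of_transcendental {U : X.Opens} (hU : IsAffineOpen U) {T : Γ(X, U)}
    (hgen : ∀ r : Γ(X, U), ∃ p : Polynomial A, r = p.eval₂ ((rs le_top).comp (AffineChart.glob b)) T)
    {η w : X} (hηU : η ∈ U) (hwU : w ∈ U) (hw : b w = IsLocalRing.closedPoint A)
    (htr : ∀ p : Polynomial A, X.evaluation U η hηU (p.eval₂ ((rs le_top).comp (AffineChart.glob b)) T) = 0 →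
      ∀ n, p.coeff n ∈ IsLocalRing.maximalIdeal A) : η ⤳ w := by
  have hle : hU.primeIdealOf ⟨η, hηU⟩ ≤ hU.primeIdealOf ⟨w, hwU⟩ := by
    intro r hr
    obtain ⟨p, rfl⟩ := hgen r
    rw [mem_primeIdealOf] at hr
    rw [Polynomial.eval₂_eq_sum, Polynomial.sum]
    refine Ideal.sum_mem _ fun n _ => Ideal.mul_mem_right _ _ ?_
    rw [mem_primeIdealOf]
    exact eval_glob_eq_zero b hw (htr p hr n) hwU
  have := ((PrimeSpectrum.le_iff_specializes _ _).1 hle).map hU.fromSpec.continuous
  rwa [hU.fromSpec_primeIdealOf, hU.fromSpec_primeIdealOf] at this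

/-- In two charts with reciprocal fractions, a non-closed point of the fibre specialises to every
point of the fibre. -/
theorem specializes_fibre {U V : X.Opens} (hU : IsAffineOpen U) (hV : IsAffineOpen V) {T : Γ(X, U)} {S : Γ(X, V)}
    (hcov : U ⊔ V = ⊤) (hUV : U ⊓ V = X.basicOpen T)
    (hgenU : ∀ r : Γ(X, U), ∃ p : Polynomial A, r = p.eval₂ ((rs le_top).comp (AffineChart.glob b)) T)
    (hgenV : ∀ r : Γ(X, V), ∃ p : Polynomial A, r = p.eval₂ ((rs le_top).comp (AffineChart.glob b)) S)
    (hST : rs (inf_le_right : U ⊓ V ≤ V) S * rs (inf_le_left : U ⊓ V ≤ U) T = 1)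
    {η z w : X} (hηz : η ⤳ z) (hne : η ≠ z) (hz : z ∈ U)
    (hη : b η = IsLocalRing.closedPoint A) (hw : b w = IsLocalRing.closedPoint A) : η ⤳ w := by
  have hηU : η ∈ U := hηz.mem_open U.2 hz
  have htr := coeff_mem b hU hgenU hηz hne hz hη
  rcases (show w ∈ U ⊔ V from hcov.ge trivial) with hwU | hwV
  · exact specializes_of_transcendental b hU hgenU hηU hwU hw htr
  have hT : X.evaluation U η hηU T ≠ 0 := by
    intro h0
    have := htr Polynomial.X (by rwa [Polynomial.eval₂_X]) 1
    rw [Polynomial.coeff_X_one] at this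
    exact (IsLocalRing.maximalIdeal.isMaximal A).ne_top ((Ideal.eq_top_iff_one _).2 this)
  have hηUV : η ∈ U ⊓ V := by
    rw [hUV]; exact (X.evaluation_ne_zero_iff_mem_basicOpen η hηU T).1 hT
  refine specializes_of_transcendental b hV hgenV hηUV.2 hwV hw ?_
  have hres : ∀ {O : X.Opens} (h : U ⊓ V ≤ O) (f : Γ(X, O)),
      X.evaluation (U ⊓ V) η hηUV (rs h f) = X.evaluation O η (h hηUV) f := fun h f => by
    rw [← X.germ_residue, ← X.germ_residue]
    exact congrArg (X.residue η) (X.presheaf.germ_res_apply (homOfLE h) η hηUV f)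
  let ψ : A →+* X.residueField η :=
    (X.evaluation (U ⊓ V) η hηUV).hom.comp ((rs le_top).comp (AffineChart.glob b))
  let t := X.evaluation U η hηU T
  let s := X.evaluation V η hηUV.2 S
  have hst : s * t = 1 := by
    have := congrArg (X.evaluation (U ⊓ V) η hηUV) hST
    rwa [map_mul, map_one, hres, hres] at this
  have hev : ∀ {O : X.Opens} (h : U ⊓ V ≤ O) (f : Γ(X, O)) (p : Polynomial A),
      X.evaluation O η (h hηUV) (p.eval₂ ((rs le_top).comp (AffineChart.glob b)) f) =
        p.eval₂ ψ (X.evaluation O η (h hηUV) f) := fun {O} h f p => by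
    show (X.evaluation O η (h hηUV)).hom _ = _
    rw [Polynomial.hom_eval₂]
    congr 1
    ext a
    show X.evaluation O η (h hηUV) (rs le_top (AffineChart.glob b a)) = X.evaluation (U ⊓ V) η hηUV _
    rw [← hres h, rs_rs]
    rfl
  intro p hp n
  rw [hev inf_le_right] at hp
  have hp' : (p.reflect p.natDegree).eval₂ ψ t = 0 := by
    haveI : Invertible s := ⟨t, by rw [mul_comm]; exact hst, hst⟩
    rw [show t = ⅟s from (invOf_eq_right_inv hst).symm, Polynomial.eval₂_reflect_eq_zero_iff ψ s _ _ le_rfl]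
    exact hp
  by_cases hn : n ≤ p.natDegree
  · have := htr (p.reflect p.natDegree) (by rw [hev inf_le_left]; exact hp') (p.natDegree - n)
    rwa [Polynomial.coeff_reflect, Polynomial.revAt_le (Nat.sub_le _ _), Nat.sub_sub_self hn] at this
  · rw [Polynomial.coeff_eq_zero_of_natDegree_lt (not_le.1 hn)]
    exact zero_mem _

/-- The fibre over the closed point of a blow-up of a local ring in its two-generated maximal ideal
is contained in the closure of any of its non-closed points. -/
theorem specializes_of_blowUp {x y : A} (hm : IsLocalRing.maximalIdeal A = Ideal.ofList [x, y])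
    (hb : _root_.BlowUp.IsBlowUp b (Existence.centre (IsLocalRing.maximalIdeal A)))
    {η z w : X} (hηz : η ⤳ z) (hne : η ≠ z)
    (hη : b η = IsLocalRing.closedPoint A) (hw : b w = IsLocalRing.closedPoint A) : η ⤳ w := by
  set m := IsLocalRing.maximalIdeal A
  have hm' : m = Ideal.ofList [y, x] := by
    rw [hm, Ideal.ofList, Ideal.ofList]
    congr 1
    ext a
    simp [or_comm]
  have hx : x ∈ m := by rw [hm]; exact Ideal.subset_span (by simp)
  have hy : y ∈ m := by rw [hm]; exact Ideal.subset_span (by simp)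
  obtain ⟨e, he⟩ := BlowUp.Basic.exists_iso hb (Existence.isBlowUp_proj m)
  obtain ⟨U, hU, T, hUe, hUV, hxT, hxU, hgen⟩ := exists_chart_data b e he hm hx hy
  obtain ⟨V, hV, S, hVe, hVU, hyS, hyV, hgen'⟩ := exists_chart_data b e he hm' hy hx
  rw [← hVe] at hUV
  rw [← hUe] at hVU
  have hcov : U ⊔ V = ⊤ := by
    refine top_unique fun q _ => ?_
    obtain ⟨a, hal, ha, hq⟩ := BlowPerf.Global.exists_chart [x, y] hm (e.inv q)
    obtain ⟨w', hw'⟩ := hq
    have hq' : (ProjRees.chart m ha ≫ e.hom) w' = q := by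
      rw [Scheme.Hom.comp_apply, hw', ← Scheme.Hom.comp_apply, Iso.inv_hom_id]; rfl
    rcases List.mem_cons.1 hal with rfl | h
    · exact Or.inl (hUe ▸ ⟨w', hq'⟩)
    · obtain rfl := List.mem_singleton.1 h
      exact Or.inr (hVe ▸ ⟨w', hq'⟩)
  have hST : rs (inf_le_right : U ⊓ V ≤ V) S * rs inf_le_left T = 1 := by
    have hnz : rs (le_top : U ⊓ V ≤ ⊤) (AffineChart.glob b x) ∈ nonZeroDivisors Γ(X, U ⊓ V) := by
      rw [← rs_rs (le_top : U ≤ ⊤) inf_le_left]
      exact IdealSh.EffCartier.map_res_mem_nonZeroDivisors (U := ⟨U, hU⟩) (V := ⟨U ⊓ V, hUV ▸ hU.basicOpen T⟩) (inf_le_left : U ⊓ V ≤ U) hxU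
    refine sub_eq_zero.1 (mem_nonZeroDivisors_iff_right.1 hnz _ ?_)
    have h1 := congrArg (rs (inf_le_left : U ⊓ V ≤ U)) hxT
    have h2 := congrArg (rs (inf_le_right : U ⊓ V ≤ V)) hyS
    rw [map_mul, rs_rs, rs_rs] at h1 h2
    linear_combination (rs (inf_le_right : U ⊓ V ≤ V) S) * h1 + h2
  rcases (show z ∈ U ⊔ V from hcov.ge trivial) with hz | hz
  · exact specializes_fibre b hU hV hcov hUV hgen hgen' hST hηz hne hz hη hw
  · refine specializes_fibre b hV hU (sup_comm U V ▸ hcov) hVU hgen' hgen ?_ hηz hne hz hη hw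
    have h1 := congrArg (rs (le_of_eq (inf_comm V U) : V ⊓ U ≤ U ⊓ V)) hST
    rw [map_mul, map_one, rs_rs, rs_rs] at h1
    rw [mul_comm]
    exact h1

end Groth.Agent.BlowH1
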