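/-
Blowing down a point with regular two-dimensional local ring: the fibre over the point, and
extension of morphisms to affine schemes across such a point.
-/
import Groth.Agent.BlowH1.Fibre
import Groth.Agent.TorsorClos.Hartogs
import Groth.Agent.IdealSh.Stalk

set_option autoImplicit false
set_option linter.style.haveILetI false
set_option backward.isDefEq.respectTransparency false
set_option backward.isDefEq.respectTransparency.types false

universe u

open Groth.Agent.BlowUp TopologicalSpace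
open CategoryTheory CategoryTheory.Limits AlgebraicGeometry

namespace Groth.Agent.BlowH1

/-- The global ideal of the inverse image on the spectrum of a local ring is the stalk ideal. -/
theorem ideal_top_fromSpecStalk {X : Scheme.{u}} (𝓙 : X.IdealSheafData) (x : X) :
    (𝓙.comap (X.fromSpecStalk x)).ideal ⟨⊤, isAffineOpen_top _⟩ =
      (IntMult.stalkIdeal 𝓙 x).map (Scheme.ΓSpecIso (X.presheaf.stalk x)).inv.hom := by
  obtain ⟨U, hx, -⟩ := IdealSh.Comap.exists_affine_le x ⊤ trivial
  have htop : (⊤ : (Spec (X.presheaf.stalk x)).Opens) ≤ X.fromSpecStalk x ⁻¹ᵁ U.1 := fun q _ => by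
    have hq : X.fromSpecStalk x q ∈ Set.range (X.fromSpecStalk x) := ⟨q, rfl⟩
    rw [Scheme.range_fromSpecStalk] at hq
    exact (hq : X.fromSpecStalk x q ⤳ x).mem_open U.1.2 hx
  rw [IdealSh.Comap.ideal_comap 𝓙 (X.fromSpecStalk x) U ⟨⊤, isAffineOpen_top _⟩ htop,
    IdealSh.stalkIdeal_eq _ U hx, Ideal.map_map, ← CommRingCat.hom_comp]
  congr 2
  rw [Scheme.Hom.appLE, Scheme.fromSpecStalk_app hx, Category.assoc, Category.assoc, ← Functor.map_comp]
  have e : ((homOfLE le_top : X.fromSpecStalk x ⁻¹ᵁ U.1 ⟶ ⊤).op ≫ (homOfLE htop).op) = 𝟙 _ := Subsingleton.elim _ _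
  rw [e, (Spec (X.presheaf.stalk x)).presheaf.map_id, Category.comp_id]

/-- The stalk of the ideal of a closed point is the maximal ideal. -/
theorem stalkIdeal_point {X : Scheme.{u}} (x : X) (hx : IsClosed ({x} : Set X)) :
    IntMult.stalkIdeal (Scheme.IdealSheafData.vanishingIdeal ⟨{x}, hx⟩) x =
      IsLocalRing.maximalIdeal (X.presheaf.stalk x) := by
  obtain ⟨U, hxU, -⟩ := IdealSh.Comap.exists_affine_le x ⊤ trivial
  rw [IdealSh.stalkIdeal_eq _ U hxU, Scheme.IdealSheafData.vanishingIdeal_ideal]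
  letI := TopCat.Presheaf.algebra_section_stalk X.presheaf (⟨x, hxU⟩ : (U.1 : X.Opens))
  haveI := U.2.isLocalization_stalk ⟨x, hxU⟩
  have hpre : U.2.fromSpec ⁻¹' ({x} : Set X) = {U.2.primeIdealOf ⟨x, hxU⟩} := by
    ext q
    constructor
    · intro hq
      exact U.2.fromSpec.isOpenEmbedding.injective (by rw [U.2.fromSpec_primeIdealOf]; exact hq)
    · rintro rfl
      exact U.2.fromSpec_primeIdealOf ⟨x, hxU⟩
  show Ideal.map _ (PrimeSpectrum.vanishingIdeal (U.2.fromSpec ⁻¹' ({x} : Set X))) = _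
  rw [hpre, PrimeSpectrum.vanishingIdeal_singleton]
  exact IsLocalization.AtPrime.map_eq_maximalIdeal _ _

/-- In a blow-up of a closed point whose local ring has two-generated maximal ideal, a non-closed
point of the fibre specialises to every point of the fibre. -/
theorem specializes_of_pointBlowUp {X X' : Scheme.{u}} (b : X ⟶ X') (x' : X') (hx' : IsClosed ({x'} : Set X'))
    (hb : _root_.BlowUp.IsBlowUp b (Scheme.IdealSheafData.vanishingIdeal ⟨{x'}, hx'⟩))
    {a c : X'.presheaf.stalk x'} (hm : IsLocalRing.maximalIdeal (X'.presheaf.stalk x') = Ideal.ofList [a, c])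
    {η z w : X} (hηz : η ⤳ z) (hne : η ≠ z) (hη : b η = x') (hz : b z = x') (hw : b w = x') : η ⤳ w := by
  haveI : Flat (X'.fromSpecStalk x') := GrpScheme.HomFlat.flat_fromSpecStalk x'
  have hc : (Scheme.IdealSheafData.vanishingIdeal ⟨{x'}, hx'⟩).comap (X'.fromSpecStalk x') =
      Existence.centre (IsLocalRing.maximalIdeal (X'.presheaf.stalk x')) := by
    refine (BlowPerf.Global.eq_centre (A := X'.presheaf.stalk x') _).trans ?_
    rw [ideal_top_fromSpecStalk, stalkIdeal_point x' hx']
    congr 1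
    exact Ideal.comap_map_of_bijective _
      (ConcreteCategory.bijective_of_isIso (Scheme.ΓSpecIso (X'.presheaf.stalk x')).inv)
  have hP : _root_.BlowUp.IsBlowUp (pullback.fst (X'.fromSpecStalk x') b)
      (Existence.centre (IsLocalRing.maximalIdeal (X'.presheaf.stalk x'))) :=
    hc ▸ Basic.flat_baseChange (X'.fromSpecStalk x') hb
  let s := pullback.snd (X'.fromSpecStalk x') b
  have hemb : Topology.IsEmbedding s := s.isEmbedding
  have hlift : ∀ q : X, b q = x' → ∃ p, s p = q ∧
      pullback.fst (X'.fromSpecStalk x') b p = IsLocalRing.closedPoint (X'.presheaf.stalk x') := by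
    intro q hq
    obtain ⟨p, hp1, hp2⟩ := Scheme.Pullback.exists_preimage_pullback (f := X'.fromSpecStalk x') (g := b)
      (IsLocalRing.closedPoint (X'.presheaf.stalk x')) q
      (by rw [Scheme.fromSpecStalk_closedPoint]; exact hq.symm)
    exact ⟨p, hp2, hp1⟩
  obtain ⟨η₀, hsη, hη₀⟩ := hlift η hη
  obtain ⟨z₀, hsz, hz₀⟩ := hlift z hz
  obtain ⟨w₀, hsw, hw₀⟩ := hlift w hw
  have h1 : η₀ ⤳ z₀ := hemb.isInducing.specializes_iff.1 (by rw [hsη, hsz]; exact hηz)
  have h2 : η₀ ≠ z₀ := fun h => hne (by rw [← hsη, ← hsz, h])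
  have := (specializes_of_blowUp (A := X'.presheaf.stalk x') (pullback.fst (X'.fromSpecStalk x') b) hm hP h1 h2 hη₀ hw₀).map s.continuous
  rwa [hsη, hsw] at this

/-- Morphisms to an affine scheme extend uniquely along a morphism inducing an isomorphism on
global functions. -/
theorem existsUnique_ext_affine {O W V : Scheme.{u}} [IsAffine V] (j : O ⟶ W) [IsIso j.appTop] (f : O ⟶ V) :
    ∃! g : W ⟶ V, j ≫ g = f := by
  refine ⟨W.toSpecΓ ≫ Spec.map (f.appTop ≫ inv j.appTop) ≫ V.isoSpec.inv, ?_, ?_⟩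
  · show j ≫ _ = f
    rw [Scheme.toSpecΓ_naturality_assoc, ← Spec.map_comp_assoc, Category.assoc, IsIso.inv_hom_id,
      Category.comp_id, ← Scheme.toSpecΓ_naturality_assoc, Scheme.toSpecΓ_isoSpec_inv, Category.comp_id]
  · intro g hg
    refine ext_of_isAffine ?_
    have h := congrArg Scheme.Hom.appTop hg
    rw [Scheme.Hom.comp_appTop] at h
    rw [← cancel_mono j.appTop, h, Scheme.Hom.comp_appTop, Scheme.Hom.comp_appTop]
    have e : (V.toSpecΓ ≫ V.isoSpec.inv).appTop = 𝟙 _ := by
      rw [Scheme.toSpecΓ_isoSpec_inv]; rfl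
    rw [Scheme.Hom.comp_appTop, Scheme.toSpecΓ_appTop] at e
    simp only [Category.assoc, Scheme.ΓSpecIso_naturality_assoc, Scheme.toSpecΓ_appTop, IsIso.inv_hom_id,
      Category.comp_id]
    rw [reassoc_of% e]

end Groth.Agent.BlowH1
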