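import Groth.Agent.CohAff.Vanishing

/-!
# First cohomology of a union of two affine opens
-/

set_option autoImplicit false

universe u

open CategoryTheory Limits Opposite TopologicalSpace AlgebraicGeometry

namespace Groth.Agent.BlowH1

open Groth.Agent.CohAff

/-- If sections on the intersection of two acyclic opens split, the union has no first cohomology. -/
theorem lifts_sup {X : TopCat.{u}} {C : CovSys X} {F : AbSh X} (hF : C.Good F) {W₁ W₂ : Opens X}
    (h₁ : C.mem W₁) (h₂ : C.mem W₂)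
    (hsplit : ∀ c : F.obj.obj (op (W₁ ⊓ W₂)), ∃ (a : F.obj.obj (op W₁)) (b : F.obj.obj (op W₂)),
      c = res F.obj inf_le_left a + res F.obj inf_le_right b) :
    Lifts (W₁ ⊔ W₂) F := by
  intro q
  let S := gdSeq F
  have hS : S.ShortExact := gdSeq_shortExact _
  obtain ⟨t₁, ht₁⟩ := hF.sec_surjective hS h₁ (res S.X₃.obj le_sup_left q)
  obtain ⟨t₂, ht₂⟩ := hF.sec_surjective hS h₂ (res S.X₃.obj le_sup_right q)
  let d : S.X₂.obj.obj (op (W₁ ⊓ W₂)) := res S.X₂.obj inf_le_left t₁ - res S.X₂.obj inf_le_right t₂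
  obtain ⟨c, hc⟩ := sec_exact hS (s := d) (by
    have e₁ : res S.X₃.obj inf_le_left (sec S.g W₁ t₁) =
        res S.X₃.obj (inf_le_left.trans le_sup_left : W₁ ⊓ W₂ ≤ W₁ ⊔ W₂) q := by
      rw [ht₁, res_res]
    have e₂ : res S.X₃.obj inf_le_right (sec S.g W₂ t₂) =
        res S.X₃.obj (inf_le_left.trans le_sup_left : W₁ ⊓ W₂ ≤ W₁ ⊔ W₂) q := by
      rw [ht₂, res_res]
    rw [map_sub, ← sec_res, ← sec_res, e₁, e₂, sub_self])
  have hsplit' : ∀ c : S.X₁.obj.obj (op (W₁ ⊓ W₂)), ∃ (a : S.X₁.obj.obj (op W₁)) (b : S.X₁.obj.obj (op W₂)),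
      c = res S.X₁.obj inf_le_left a + res S.X₁.obj inf_le_right b := hsplit
  obtain ⟨a, b, rfl⟩ := hsplit' c
  let sf : ∀ i : ULift.{u} Bool, S.X₂.obj.obj (op (cond i.down W₁ W₂))
    | ⟨true⟩ => t₁ - sec S.f W₁ a
    | ⟨false⟩ => t₂ + sec S.f W₂ b
  have hov : res S.X₂.obj inf_le_left (t₁ - sec S.f W₁ a) =
      res S.X₂.obj (inf_le_right : W₁ ⊓ W₂ ≤ W₂) (t₂ + sec S.f W₂ b) := by
    rw [map_sub, map_add, sec_res, sec_res]
    have hd : sec S.f _ (res S.X₁.obj inf_le_left a) + sec S.f _ (res S.X₁.obj inf_le_right b) =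
        res S.X₂.obj inf_le_left t₁ - res S.X₂.obj inf_le_right t₂ := (map_add _ _ _).symm.trans hc
    rw [sub_eq_iff_eq_add, add_assoc, add_comm (sec S.f _ (res _ inf_le_right b)) _]
    exact eq_add_of_sub_eq' hd.symm
  have hcompat : TopCat.Presheaf.IsCompatible S.X₂.obj (fun i : ULift.{u} Bool ↦ cond i.down W₁ W₂) sf := by
    rintro ⟨_ | _⟩ ⟨_ | _⟩
    · rfl
    · have := congrArg (res S.X₂.obj (inf_comm W₂ W₁).le) hov
      rw [res_res, res_res] at this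
      exact this.symm
    · exact hov
    · rfl
  have hle : ∀ i : ULift.{u} Bool, cond i.down W₁ W₂ ≤ W₁ ⊔ W₂ := by
    rintro ⟨_ | _⟩
    · exact le_sup_right
    · exact le_sup_left
  have hcov : W₁ ⊔ W₂ ≤ ⨆ i : ULift.{u} Bool, cond i.down W₁ W₂ :=
    sup_le (le_iSup (fun i : ULift.{u} Bool ↦ cond i.down W₁ W₂) ⟨true⟩)
      (le_iSup (fun i : ULift.{u} Bool ↦ cond i.down W₁ W₂) ⟨false⟩)
  obtain ⟨t, ht, -⟩ := TopCat.Sheaf.existsUnique_gluing' S.X₂ _ _ (fun i ↦ homOfLE (hle i)) hcov sf hcompat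
  refine ⟨t, TopCat.Sheaf.eq_of_locally_eq' S.X₃ _ _ (fun i ↦ homOfLE (hle i)) hcov _ _ fun i ↦ ?_⟩
  change res S.X₃.obj (hle i) (sec S.g _ t) = res S.X₃.obj (hle i) q
  rw [sec_res]
  refine (congrArg (sec S.g _) (ht i)).trans ?_
  obtain ⟨_ | _⟩ := i
  · exact (map_add (sec S.g W₂) t₂ (sec S.f W₂ b)).trans
      ((congrArg _ (sec_g_f W₂ b)).trans ((add_zero _).trans ht₂))
  · exact (map_sub (sec S.g W₁) t₁ (sec S.f W₁ a)).trans
      ((congrArg _ (sec_g_f W₁ a)).trans ((sub_zero _).trans ht₁))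

/-- If sections on the intersection of two covering affine opens split, `H¹` vanishes. -/
theorem subsingleton_HH_one {X : Scheme.{u}} (M : X.Modules) [Coh.IsQCoh M] {U V : X.Opens}
    (hU : IsAffineOpen U) (hV : IsAffineOpen V) (hUV : U ⊔ V = ⊤)
    (hsplit : ∀ c : Γ(M, U ⊓ V), ∃ (a : Γ(M, U)) (b : Γ(M, V)),
      c = M.presheaf.map (homOfLE inf_le_left).op a + M.presheaf.map (homOfLE inf_le_right).op b) :
    Subsingleton (Coh.HH X M 1) := by
  refine (subsingleton_H_iff (Coh.toAb M) 0).2 ?_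
  have h := lifts_sup (C := affCov X) (good_affCov M) (W₁ := U) (W₂ := V) hU hV hsplit
  rw [hUV] at h
  exact h

end Groth.Agent.BlowH1
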